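import Groth.Agent.L24.LocQ.Noetherian
import Groth.Agent.L24.LocQ.RepDescent
import Groth.Agent.L24.LocQ.Cancel
import Groth.Agent.L24.LocQ.SmoothLocalST
import Groth.Agent.L24.St.Bootstrap2
import Groth.Agent.L24.St.OverSpace2
import Groth.Agent.L23.SourceRegular
import Groth.Agent.L19.FlatComp
import Mathlib.RingTheory.KrullDimension.Zero

/-!
Morphisms from spectra of fields to algebraic stacks.
-/

set_option autoImplicit false
set_option backward.isDefEq.respectTransparency false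
set_option backward.isDefEq.respectTransparency.types false

universe u

open CategoryTheory CategoryTheory.Limits AlgebraicGeometry Opposite AlgSt

noncomputable section

namespace Groth.L09.FieldPt

open Groth.L24.St Groth.L24.LocQ

variable {S : Scheme.{u}} {𝒳 𝒴 𝒵 : AlgSt.Cat S}

theorem rep1_overCat (h𝒵 : IsAlgStack Scheme.fppfPrecoverage 𝒵) {U : Over S} (z : FibCat.overCat U ⥤ᵇ 𝒵) :
    RepByAlgSp1 z :=
  (repByAlgSp1_diag_iff h𝒵.isStack.1).1 h𝒵.diag U z

theorem smooth_id (U : Over S) :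
    RepByAlgSpWith (AlgSp.LocP @Smooth) (BasedFunctor.id (FibCat.overCat U)) :=
  repWith_of_isEquivOver (fun _ _ _ _ b _ => locP_smooth_of_isIso b) (isEquivOver_id _)

theorem surjective_id (U : Over S) :
    RepByAlgSpWith AlgSp.IsSurjectiveMor (BasedFunctor.id (FibCat.overCat U)) :=
  repWith_surjective_of_isSurjective (overCat_isFibGrpd U) (overCat_isFibGrpd U) (repWith_rep1 (smooth_id U))
    (isSurjective_of_isEquivOver (isEquivOver_id _))

/-- Being representable with a property local for the etale topology can be read on a chart. -/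
theorem prop_of_repWith_overMap {Q : MorphismProperty Scheme.{u}} (hQ : Groth.L23.EtLocal Q) {U V : Over S}
    {ψ : U ⟶ V} (h : RepByAlgSpWith (AlgSp.LocP Q) (overMap ψ)) : Q ψ.left := by
  have h1 : RepByAlgSpWith (AlgSp.LocP Q) (BasedFunctor.comp (toOverCat U) (overMap ψ)) :=
    (repWith_precomp (toOverCat_isEquivOver U) _).2 h
  have he : spMapOfOver (BasedFunctor.comp (toOverCat U) (overMap ψ)) = (AlgSp.yon S).map ψ := by
    ext T ⟨g⟩
    rfl
  exact (locP_map_iff hQ ψ).1 (he ▸ locP_spMapOfOver hQ (AlgSp.IsAlgSpace.yon_obj U) h1)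

section Field

variable {k : Type u} [Field k] {a : Spec (CommRingCat.of k) ⟶ S}

theorem flat_to_field {X : Scheme.{u}} (f : X ⟶ Spec (CommRingCat.of k)) : Flat f := by
  have hR : IsField (CommRingCat.of k : Type u) := Field.toIsField k
  refine Flat.of_stalkMap f fun x => ?_
  have hp : f x = IsLocalRing.closedPoint k := Subsingleton.elim _ _
  have hF : IsField ((Spec (CommRingCat.of k)).presheaf.stalk (f x)) := by
    let p := f x
    let e := (Spec.stalkIso (CommRingCat.of k) p).commRingCatIsoToRingEquiv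
    have : p.asIdeal = ⊥ := (Ideal.eq_bot_or_top p.asIdeal).resolve_right p.2.ne_top
    have hm : p.asIdeal ∈ minimalPrimes k := ⟨⟨p.2, bot_le⟩, fun q _ _ => this ▸ bot_le⟩
    have : Ring.KrullDimLE 0 (Localization.AtPrime p.asIdeal) := .of_isLocalization _ hm _
    exact MulEquiv.isField (Ring.KrullDimLE.isField_of_isReduced (R := Localization.AtPrime p.asIdeal)) e.toMulEquiv
  letI := hF.toField
  letI := (f.stalkMap x).hom.toAlgebra
  exact (inferInstance : Module.Flat ((Spec (CommRingCat.of k)).presheaf.stalk (f x)) (X.presheaf.stalk x))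

theorem locQ_flat_to_field (h𝒳 : IsAlgStack Scheme.fppfPrecoverage 𝒳) (f : 𝒳 ⥤ᵇ FibCat.overCat (Over.mk a)) :
    AlgSt.LocQ (AlgSp.LocP @Flat) f :=
  locQ_of_forall h𝒳 (isAlgStack_overCat _) (smooth_id _) (surjective_id _) fun _ _ h _ _ =>
    (locP_map_iff Groth.L23.etLocal_flat h).2 (flat_to_field h.left)

theorem subsingleton_points_overCat : Subsingleton (Points (FibCat.overCat (Over.mk a))) := by
  have : Subsingleton ↥(Over.mk a).left := inferInstanceAs (Subsingleton (PrimeSpectrum k))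
  exact (overPtEquiv (Over.mk a)).subsingleton

theorem subsingleton_points (h𝒵 : IsAlgStack Scheme.fppfPrecoverage 𝒵) {z : FibCat.overCat (Over.mk a) ⥤ᵇ 𝒵}
    (hz : RepByAlgSpWith AlgSp.IsSurjectiveMor z) : Subsingleton (Points 𝒵) := by
  have := subsingleton_points_overCat (a := a)
  exact (isSurjective_of_repWith (overCat_isFibGrpd _) h𝒵.isStack.1 hz).subsingleton

theorem nonempty_points (z : FibCat.overCat (Over.mk a) ⥤ᵇ 𝒵) : Nonempty (Points 𝒵) :=
  ⟨Points.ofChart z (IsLocalRing.closedPoint k : PrimeSpectrum k)⟩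

theorem surjective_of_subsingleton (h𝒵 : IsAlgStack Scheme.fppfPrecoverage 𝒵) [Subsingleton (Points 𝒵)]
    (z : FibCat.overCat (Over.mk a) ⥤ᵇ 𝒵) : RepByAlgSpWith AlgSp.IsSurjectiveMor z :=
  repWith_surjective_of_isSurjective (overCat_isFibGrpd _) h𝒵.isStack.1 (rep1_overCat h𝒵 z)
    ((isSurjective_iff_ofChart z).2 fun _ => ⟨(IsLocalRing.closedPoint k : PrimeSpectrum k), Subsingleton.elim _ _⟩)

/-- If one point from a field is surjective and flat, every one is. -/
theorem flat_of_flat (h𝒵 : IsAlgStack Scheme.fppfPrecoverage 𝒵) {z : FibCat.overCat (Over.mk a) ⥤ᵇ 𝒵}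
    (hs : RepByAlgSpWith AlgSp.IsSurjectiveMor z) (hf : RepByAlgSpWith (AlgSp.LocP @Flat) z) {U : Over S}
    (z' : FibCat.overCat U ⥤ᵇ 𝒵) : RepByAlgSpWith (AlgSp.LocP @Flat) z' := by
  have hP := isAlgStack_overCat (Over.mk a)
  have hU := isAlgStack_overCat U
  refine repWith_of_locQ isSmoothLocalST_flat (pBase_locP Groth.L23.etLocal_flat)
    (isLocalOnBase_locP_fppf Groth.L23.etLocal_flat) hU h𝒵 (rep1_overCat h𝒵 z') ?_
  exact locQ_flat_of_fpFst hU h𝒵 hP (locQ_of_repWith_locP Groth.L23.etLocal_flat hP h𝒵 hf)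
    (isSurjective_of_repWith hP.isStack.1 h𝒵.isStack.1 hs)
    (locQ_flat_to_field (isAlgStack_fp hP hU h𝒵 z z') _)

end Field

/-- An affine scheme with a point of a given kind, mapping to a chart. -/
theorem comp_overMap {Q : MorphismProperty Scheme.{u}} [Q.IsStableUnderBaseChange] (hQ : Groth.L23.EtLocal Q)
    (hsm : ∀ {A B : Scheme.{u}} (φ : A ⟶ B), Smooth φ → Q φ) (h𝒵 : IsAlgStack Scheme.fppfPrecoverage 𝒵)
    {U V : Over S} (j : U ⟶ V) (hj : Q j.left) {y : FibCat.overCat V ⥤ᵇ 𝒵}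
    (hy : RepByAlgSpWith (AlgSp.LocP @Smooth) y) :
    RepByAlgSpWith (AlgSp.LocP Q) (BasedFunctor.comp (overMap j) y) :=
  repWith_comp_locP hQ (overCat_isFibGrpd U) (overCat_isFibGrpd V)
    (repWith_mono (fun _ _ _ _ h => Groth.L23.locP_of_repWith hQ h) (repWith_overMap hj))
    (repWith_mono (fun _ _ _ _ h => Groth.L23.locP_mono (fun φ hφ => hsm φ hφ) h) hy)

/-- A nonempty reduced scheme has a flat point from a field and a point locally of finite type. -/
theorem exists_field_maps (X : Scheme.{u}) [IsReduced X] [Nonempty ↥X] :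
    (∃ (K : Type u) (_ : Field K) (j : Spec (CommRingCat.of K) ⟶ X), Flat j) ∧
    (∃ (K : Type u) (_ : Field K) (j : Spec (CommRingCat.of K) ⟶ X), LocallyOfFiniteType j) := by
  obtain ⟨x⟩ := ‹Nonempty ↥X›
  obtain ⟨_, ⟨W, hW, rfl⟩, hxW, -⟩ :=
    X.isBasis_affineOpens.exists_subset_of_mem_open (Set.mem_univ x) isOpen_univ
  let R := Γ(X, W)
  have hne : Nontrivial R := (hW.primeIdealOf ⟨x, hxW⟩).nontrivial
  constructor
  · obtain ⟨p, hp⟩ := Ideal.nonempty_minimalPrimes (bot_ne_top : (⊥ : Ideal R) ≠ ⊤)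
    have := hp.1.1
    have hF : IsField (Localization.AtPrime p) := by
      have : Ring.KrullDimLE 0 (Localization.AtPrime p) := .of_isLocalization _ hp _
      exact Ring.KrullDimLE.isField_of_isReduced
    refine ⟨Localization.AtPrime p, hF.toField, Spec.map (CommRingCat.ofHom (algebraMap R _)) ≫ hW.fromSpec, ?_⟩
    have : Flat (Spec.map (CommRingCat.ofHom (algebraMap R (Localization.AtPrime p)))) :=
      (HasRingHomProperty.Spec_iff (P := @Flat)).2 (RingHom.flat_algebraMap_iff.2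
        (IsLocalization.flat (Localization.AtPrime p) p.primeCompl))
    infer_instance
  · obtain ⟨m, hm⟩ := Ideal.exists_maximal R
    refine ⟨R ⧸ m, Ideal.Quotient.field m, Spec.map (CommRingCat.ofHom (Ideal.Quotient.mk m)) ≫ hW.fromSpec, ?_⟩
    have : IsClosedImmersion (Spec.map (CommRingCat.ofHom (Ideal.Quotient.mk m))) :=
      IsClosedImmersion.spec_of_surjective _ Ideal.Quotient.mk_surjective
    infer_instance

section Points

variable (h𝒵 : IsAlgStack Scheme.fppfPrecoverage 𝒵)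
include h𝒵

theorem nonempty_chart [Nonempty (Points 𝒵)] {U : Over S} {y : FibCat.overCat U ⥤ᵇ 𝒵}
    (hys : RepByAlgSpWith AlgSp.IsSurjectiveMor y) : Nonempty ↥U.left :=
  let ⟨p⟩ := ‹Nonempty (Points 𝒵)›
  ⟨(surjective_ofChart_of_repWith h𝒵.isStack.1 hys p).choose⟩

theorem exists_surjective_flat_fieldPt (hr : SmoothLocally (fun T => IsReduced T) 𝒵) [Nonempty (Points 𝒵)]
    [Subsingleton (Points 𝒵)] :
    ∃ (k : Type u) (_ : Field k) (a : Spec (CommRingCat.of k) ⟶ S) (z : FibCat.overCat (Over.mk a) ⥤ᵇ 𝒵),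
      RepByAlgSpWith (AlgSp.LocP @LocallyOfFiniteType) z ∧ RepByAlgSpWith AlgSp.IsSurjectiveMor z ∧
        RepByAlgSpWith (AlgSp.LocP @Flat) z := by
  obtain ⟨U, y, hy, hys⟩ := h𝒵.atlas
  have : IsReduced U.left := hr U y hy
  have := nonempty_chart h𝒵 hys
  obtain ⟨⟨K, _, j, hj⟩, ⟨L, _, i, hi⟩⟩ := exists_field_maps U.left
  have hf := comp_overMap Groth.L23.etLocal_flat (fun φ (hφ : Smooth φ) => have := hφ; inferInstance) h𝒵
    (Over.homMk j rfl : Over.mk (j ≫ U.hom) ⟶ U) hj hy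
  have hs := surjective_of_subsingleton h𝒵 (BasedFunctor.comp (overMap (Over.homMk j rfl : Over.mk (j ≫ U.hom) ⟶ U)) y)
  exact ⟨L, inferInstance, i ≫ U.hom, _,
    comp_overMap Groth.L23.etLocal_lft (fun φ (hφ : Smooth φ) => have := hφ; inferInstance) h𝒵
      (Over.homMk i rfl : Over.mk (i ≫ U.hom) ⟶ U) hi hy,
    surjective_of_subsingleton h𝒵 _, flat_of_flat h𝒵 hs hf _⟩

/-- The charts of a stack covered flatly by a field, against smooth schemes over the field. -/
theorem exists_cover_chart {k : Type u} [Field k] {a : Spec (CommRingCat.of k) ⟶ S}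
    {z : FibCat.overCat (Over.mk a) ⥤ᵇ 𝒵} (hs : RepByAlgSpWith AlgSp.IsSurjectiveMor z) {U : Over S}
    {x : FibCat.overCat U ⥤ᵇ 𝒵} (hx : RepByAlgSpWith (AlgSp.LocP @Smooth) x) :
    ∃ (W : Over S) (h : W ⟶ U) (ρ : W ⟶ Over.mk a), Smooth ρ.left ∧ Surjective h.left ∧
      ∀ {Q : MorphismProperty Scheme.{u}}, AlgSp.IsSmoothLocalST (AlgSp.LocP Q : MorphismProperty (AlgSp.Sp S)) →
        Groth.L23.EtLocal Q → RepByAlgSpWith (AlgSp.LocP Q) z → Q h.left := by
  have hP := isAlgStack_overCat (Over.mk a)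
  obtain ⟨W, ℓ, h, hℓ, hℓs, ⟨i⟩, hℓ', -⟩ := exists_chart hP h𝒵 z x hx
  obtain ⟨ρ, ⟨e⟩, -⟩ := exists_overMap_iso (BasedFunctor.comp ℓ (FibCat.fpFst z x))
  refine ⟨W, h, ρ, prop_of_repWith_overMap Groth.L23.etLocal_smooth ((repWith_congr e).1 hℓ'),
    ⟨surjective_chart h𝒵.isStack.1 hP.isStack.1 (isSurjective_of_repWith hP.isStack.1 h𝒵.isStack.1 hs) hℓs i⟩,
    fun hQ hQ' hz => ?_⟩
  exact prop_of_locP_map (prop_of_chart hQ hP.isStack.1 h𝒵.isStack.1 (locQ_of_repWith_locP hQ' hP h𝒵 hz) hx hℓ i)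

theorem reduced_of_flat {k : Type u} [Field k] {a : Spec (CommRingCat.of k) ⟶ S}
    {z : FibCat.overCat (Over.mk a) ⥤ᵇ 𝒵} (hs : RepByAlgSpWith AlgSp.IsSurjectiveMor z)
    (hf : RepByAlgSpWith (AlgSp.LocP @Flat) z) : SmoothLocally (fun T => IsReduced T) 𝒵 := fun U x hx => by
  obtain ⟨W, h, ρ, hρ, _, hQ⟩ := exists_cover_chart h𝒵 hs hx
  have : IsReduced (Over.mk a).left := inferInstanceAs (IsReduced (Spec (CommRingCat.of k)))
  have : IsReduced W.left := Groth.L23.isReduced_of_smooth ρ.left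
  have : Flat h.left := hQ isSmoothLocalST_flat Groth.L23.etLocal_flat hf
  have : ∀ y : U.left, _root_.IsReduced (U.left.presheaf.stalk y) := fun y => by
    obtain ⟨w, rfl⟩ := h.left.surjective y
    exact isReduced_of_injective (h.left.stalkMap w).hom (Groth.L19.stalkMap_injective_of_flat h.left w)
  exact isReduced_of_isReduced_stalk U.left

theorem locallyNoetherian_of_lfp {k : Type u} [Field k] {a : Spec (CommRingCat.of k) ⟶ S}
    {z : FibCat.overCat (Over.mk a) ⥤ᵇ 𝒵} (hp : RepByAlgSpWith (AlgSp.LocP @LocallyOfFinitePresentation) z)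
    (hs : RepByAlgSpWith AlgSp.IsSurjectiveMor z) (hf : RepByAlgSpWith (AlgSp.LocP @Flat) z) :
    SmoothLocally (fun T => IsLocallyNoetherian T) 𝒵 := fun U x hx => by
  obtain ⟨W, h, ρ, hρ, _, hQ⟩ := exists_cover_chart h𝒵 hs hx
  have : IsLocallyNoetherian (Over.mk a).left := inferInstanceAs (IsLocallyNoetherian (Spec (CommRingCat.of k)))
  have : IsLocallyNoetherian W.left := LocallyOfFiniteType.isLocallyNoetherian ρ.left
  have : Flat h.left := hQ isSmoothLocalST_flat Groth.L23.etLocal_flat hf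
  have : LocallyOfFinitePresentation h.left := hQ isSmoothLocalST_lfp Groth.L23.etLocal_lfp hp
  exact Groth.L24.Alg.isLocallyNoetherian_of_fppf h.left

theorem lfp_of_lft (hN : SmoothLocally (fun T => IsLocallyNoetherian T) 𝒵) {U : Over S}
    {z : FibCat.overCat U ⥤ᵇ 𝒵} (hz : RepByAlgSpWith (AlgSp.LocP @LocallyOfFiniteType) z) :
    RepByAlgSpWith (AlgSp.LocP @LocallyOfFinitePresentation) z :=
  repWith_of_locQ isSmoothLocalST_lfp (pBase_locP Groth.L23.etLocal_lfp)
    (isLocalOnBase_locP_fppf Groth.L23.etLocal_lfp) (isAlgStack_overCat U) h𝒵 (rep1_overCat h𝒵 z)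
    (locQ_lfp_of_noetherian (isAlgStack_overCat U) h𝒵 hN
      (locQ_of_repWith_locP Groth.L23.etLocal_lft (isAlgStack_overCat U) h𝒵 hz))

end Points

end Groth.L09.FieldPt
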